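import Groth.Agent.Lib.StackGal23.Twist
import Groth.Agent.Lib.StackGal23.FiniteGrp
import Groth.Agent.Lib.StackGal23.FrobCoc
import Groth.Agent.Lib.Zeta25.PointCount
import Groth.Agent.Lib.FrobSub19.Basic

/-!
# The Frobenius endomorphism and the Galois action on geometric points
-/

set_option autoImplicit false
set_option linter.style.haveILetI false
set_option linter.unusedSectionVars false
set_option backward.isDefEq.respectTransparency false
set_option backward.isDefEq.respectTransparency.types false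
universe u v

open CategoryTheory MonoidalCategory CartesianMonoidalCategory MonObj GrpObj AlgebraicGeometry
open Limits (pullback)

namespace Groth.Agent.StackLang19

open StackGal23

variable {k : Type u} [Field k] [Finite k] {kb : Type u} [Field kb] [Algebra k kb] [IsAlgClosure k kb]

theorem exists_frob : ∃ π : kb ≃ₐ[k] kb, ∀ x, π x = x ^ Nat.card k := by
  haveI : Algebra.IsAlgebraic k kb := IsAlgClosure.isAlgebraic
  letI := Fintype.ofFinite k
  exact ⟨FiniteField.frobeniusAlgEquivOfAlgebraic k kb, fun x => by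
    rw [Nat.card_eq_fintype_card, FiniteField.coe_frobeniusAlgEquivOfAlgebraic]⟩

theorem frob_pow_apply {π : kb ≃ₐ[k] kb} (hπ : ∀ x, π x = x ^ Nat.card k) (n : ℕ) (x : kb) :
    (π ^ n) x = x ^ Nat.card k ^ n := by
  induction n with
  | zero => simp
  | succ n ih => rw [pow_succ', AlgEquiv.mul_apply, ih, hπ, ← pow_mul, ← pow_succ]

/-- A locally constant function which is constant on the powers of Frobenius is constant. -/
theorem eq_of_forall_pow {π : kb ≃ₐ[k] kb} (hπ : ∀ x, π x = x ^ Nat.card k) {α : Type v}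
    {f : (kb ≃ₐ[k] kb) → α} (hf : IsLocallyConstant f) {c : α} (h : ∀ n : ℕ, f (π ^ n) = c)
    (σ : kb ≃ₐ[k] kb) : f σ = c := by
  have h1 : (fun τ => σ * τ) ⁻¹' {τ | f τ = f σ} ∈ nhds (1 : kb ≃ₐ[k] kb) :=
    (((hf.isOpen_fiber (f σ))).preimage (continuous_const_mul σ)).mem_nhds (by simp)
  obtain ⟨E, hE, hEU⟩ := (krullTopology_mem_nhds_one_iff k _ _).1 h1
  haveI := hE
  obtain ⟨n, hn⟩ := (exists_eq_frob_pow hπ E).1 σ
  have h2 : σ⁻¹ * π ^ n ∈ E.fixingSubgroup := by
    rw [IntermediateField.mem_fixingSubgroup_iff]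
    intro x hx
    rw [AlgEquiv.mul_apply, ← hn x hx]
    exact σ.symm_apply_apply x
  have h3 : f (σ * (σ⁻¹ * π ^ n)) = f σ := hEU h2
  rw [← h3, mul_inv_cancel_left, h]

theorem isLocallyConstant_gal {Y : Over (Spec (CommRingCat.of k))} [LocallyOfFiniteType Y.hom]
    (g : SGA7.Pts kb Y) : IsLocallyConstant fun σ : kb ≃ₐ[k] kb => σ • g := by
  refine (IsLocallyConstant.iff_exists_open _).2 fun σ => ⟨(fun τ => σ⁻¹ * τ) ⁻¹' {τ | τ • g = g},
    ?_, by simp, fun τ hτ => ?_⟩
  · exact (isOpen_setOf_gal_eq (k' := k) g).preimage (continuous_const_mul σ⁻¹)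
  · have h2 : (σ⁻¹ * τ) • g = g := hτ
    rwa [mul_smul, inv_smul_eq_iff] at h2

/-- The fixed points of a twisted action are the points fixed by Frobenius. -/
theorem forall_iff_frob {π : kb ≃ₐ[k] kb} (hπ : ∀ x, π x = x ^ Nat.card k) {α : Type v}
    (φ : (kb ≃ₐ[k] kb) → α → α) {x : α} (h1 : φ 1 x = x) (hmul : ∀ σ τ, φ (σ * τ) x = φ σ (φ τ x))
    (hlc : IsLocallyConstant fun σ => φ σ x) : (∀ σ, φ σ x = x) ↔ φ π x = x := by
  refine ⟨fun h => h π, fun h => eq_of_forall_pow hπ hlc fun n => ?_⟩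
  induction n with
  | zero => rwa [pow_zero]
  | succ n ih => rw [pow_succ, hmul, h, ih]

section Frobenius

variable {π : kb ≃ₐ[k] kb} (hπ : ∀ x, π x = x ^ Nat.card k)

/-- The Frobenius endomorphism of a scheme over a finite field. -/
theorem exists_frobHom : ∃ F : ∀ Y : Over (Spec (CommRingCat.of k)), Y ⟶ Y,
    (∀ {Y Z : Over (Spec (CommRingCat.of k))} (f : Y ⟶ Z), F Y ≫ f = f ≫ F Z) ∧
      ∀ (π : kb ≃ₐ[k] kb), (∀ x, π x = x ^ Nat.card k) →
        ∀ {Y : Over (Spec (CommRingCat.of k))} (h : SGA7.Pts kb Y), h ≫ F Y = π • h := by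
  obtain ⟨p, hp⟩ := CharP.exists k
  haveI : Fact p.Prime := ⟨CharP.char_is_prime k p⟩
  letI := Fintype.ofFinite k
  obtain ⟨m, -, hm⟩ := FiniteField.card k p
  haveI : CharP kb p := charP_of_injective_algebraMap (algebraMap k kb).injective p
  have hq : Nat.card k = p ^ (m : ℕ) := by rw [Nat.card_eq_fintype_card, hm]
  have hid : FrobSch.frobIter (Spec (CommRingCat.of k)) p m = 𝟙 _ := by
    rw [FrobSub19.frobIter_spec p k m (RingHom.id k) fun r => ?_]
    · exact Spec.map_id _
    · rw [RingHom.id_apply, ← hm, FiniteField.pow_card]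
  let F : ∀ Y : Over (Spec (CommRingCat.of k)), Y ⟶ Y := fun Y =>
    haveI := FrobSch.IsCharP.of_hom Y.hom p
    Over.homMk (FrobSch.frobIter Y.left p m) (by
      rw [FrobSub19.frobIter_comp, hid, Category.comp_id])
  have hnat : ∀ {Y Z : Over (Spec (CommRingCat.of k))} (f : Y ⟶ Z), F Y ≫ f = f ≫ F Z := fun {Y Z} f =>
    haveI := FrobSch.IsCharP.of_hom Y.hom p
    haveI := FrobSch.IsCharP.of_hom Z.hom p
    Over.OverMorphism.ext (FrobSub19.frobIter_comp p f.left m)
  refine ⟨F, hnat, fun π hπ {Y} h => ?_⟩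
  rw [← hnat h]
  show F (SGA7.pt (K := k) kb) ≫ h = galPt k k kb π ≫ h
  congr 1
  apply Over.OverMorphism.ext
  exact FrobSub19.frobIter_spec p kb m (π.toAlgHom.toRingHom) fun r => by
    show π r = _
    rw [hπ, hq]

variable {F : ∀ Y : Over (Spec (CommRingCat.of k)), Y ⟶ Y}
  (hF : ∀ {Y Z : Over (Spec (CommRingCat.of k))} (f : Y ⟶ Z), F Y ≫ f = f ≫ F Z)

include hF in
theorem isMonHom_frobHom (G : Over (Spec (CommRingCat.of k))) [GrpObj G] : IsMonHom (F G) := by
  have e1 : F (𝟙_ (Over (Spec (CommRingCat.of k)))) = 𝟙 _ := toUnit_unique _ _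
  have e2 : F (G ⊗ G) = F G ⊗ₘ F G := by
    apply CartesianMonoidalCategory.hom_ext
    · rw [tensorHom_fst, hF]
    · rw [tensorHom_snd, hF]
  exact ⟨by rw [← hF, e1, Category.id_comp], by rw [← hF, e2]⟩

end Frobenius

section Finiteness

variable {π : kb ≃ₐ[k] kb} (hπ : ∀ x, π x = x ^ Nat.card k)

include hπ in
theorem exists_pow_fixed {Y : Over (Spec (CommRingCat.of k))} [LocallyOfFiniteType Y.hom]
    (g : SGA7.Pts kb Y) : ∃ N : ℕ, 0 < N ∧ π ^ N • g = g := by
  obtain ⟨L, hL, xL, hxL⟩ := exists_factor (k' := k) g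
  haveI := hL
  haveI : Finite L := Module.finite_of_finite k
  letI := Fintype.ofFinite L
  refine ⟨Module.finrank k L, Module.finrank_pos, ?_⟩
  have h : π ^ Module.finrank k L ∈ L.fixingSubgroup := by
    rw [IntermediateField.mem_fixingSubgroup_iff]
    intro x hx
    rw [frob_pow_apply hπ, ← Module.natCard_eq_pow_finrank (K := k) (V := L), Nat.card_eq_fintype_card]
    exact congrArg Subtype.val (FiniteField.pow_card (⟨x, hx⟩ : L))
  show galPt k k kb (π ^ Module.finrank k L) ≫ g = g
  have e := gal_incl_of_mem (k := k) L h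
  rw [← hxL, ← Category.assoc]
  exact congrArg (· ≫ xL) e

include hπ in
theorem finite_pow_fixed {Y : Over (Spec (CommRingCat.of k))} [LocallyOfFiniteType Y.hom] [QuasiCompact Y.hom]
    {M : ℕ} (hM : 0 < M) : Finite {h : SGA7.Pts kb Y // π ^ M • h = h} := by
  obtain ⟨E, hE, hEM⟩ := exists_finrank_eq (k := k) (kb := kb) M hM
  haveI := hE
  haveI : Finite E := Module.finite_of_finite k
  haveI : IsAlgClosure E kb := ⟨IsAlgClosure.isAlgClosed k,
    (IsAlgClosure.isAlgebraic (R := k) (K := kb)).tower_top E⟩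
  obtain ⟨π', hπ'⟩ := exists_frob (k := E) (kb := kb)
  haveI : Finite (SGA7.pt (K := k) E ⟶ Y) := by
    haveI : Finite ((SGA7.pt (K := k) E).left ⟶ Y.left) := Zeta25.finite_points Y.hom E
    exact Finite.of_injective (fun f => f.left) fun _ _ h => Over.OverMorphism.ext h
  have key : ∀ h : {h : SGA7.Pts kb Y // π ^ M • h = h}, ∃ y : SGA7.pt (K := k) E ⟶ Y,
      cov k E kb ≫ y = h.1 := fun h => by
    refine exists_of_fixed (k := k) (k' := E) h.1 fun σ => ?_
    have hlc : IsLocallyConstant fun σ : kb ≃ₐ[E] kb => galPt k E kb σ ≫ h.1 := by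
      refine (IsLocallyConstant.iff_exists_open _).2 fun τ =>
        ⟨(fun ρ => τ⁻¹ * ρ) ⁻¹' {ρ | galPt k E kb ρ ≫ h.1 = h.1},
          (isOpen_setOf_gal_eq (k' := E) h.1).preimage (continuous_const_mul τ⁻¹), by simp [gal_one],
          fun ρ hρ => ?_⟩
      have h2 : galPt k E kb (τ⁻¹ * ρ) ≫ h.1 = h.1 := hρ
      conv_rhs => rw [← h2]
      rw [← Category.assoc, ← gal_mul, mul_inv_cancel_left]
    refine eq_of_forall_pow hπ' hlc (fun n => ?_) σ
    have h1 : galPt k E kb π' ≫ h.1 = h.1 := by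
      refine Eq.trans (congrArg (· ≫ h.1) (show galPt k E kb π' = galPt k k kb (π ^ M) from ?_)) h.2
      refine congrArg (ptMap k) (AlgHom.ext fun x => ?_)
      show π' x = (π ^ M) x
      rw [hπ', frob_pow_apply hπ, Module.natCard_eq_pow_finrank (K := k) (V := E), hEM]
    induction n with
    | zero => rw [pow_zero, gal_one, Category.id_comp]
    | succ n ih => rw [pow_succ, gal_mul, Category.assoc, h1, ih]
  choose y hy using key
  exact Finite.of_injective y fun a b e => Subtype.ext (by rw [← hy a, ← hy b, e])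

include hπ in
/-- A twisted Frobenius has finitely many fixed points. -/
theorem finite_conj_fixed {G : Over (Spec (CommRingCat.of k))} [GrpObj G] [LocallyOfFiniteType G.hom]
    [QuasiCompact G.hom] (w : SGA7.Pts kb G) :
    Finite {h : SGA7.Pts kb G // π • h = w * h * w⁻¹} := by
  obtain ⟨N, hN, hw⟩ := exists_pow_fixed hπ w
  let S : Subgroup (SGA7.Pts kb G) :=
    { carrier := {g | π ^ N • g = g}
      one_mem' := smul_one _
      mul_mem' := fun {a b} ha hb => by
        show π ^ N • (a * b) = a * b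
        rw [smul_mul']
        exact congrArg₂ (· * ·) ha hb
      inv_mem' := fun {a} ha => by
        show π ^ N • a⁻¹ = a⁻¹
        rw [smul_inv']
        exact congrArg _ ha }
  haveI : Finite S := finite_pow_fixed hπ hN
  have hws : ∀ n, π ^ n • w ∈ S := fun n => by
    show π ^ N • π ^ n • w = π ^ n • w
    rw [smul_smul, pow_mul_comm, ← smul_smul, hw]
  -- the iterates of the twisted Frobenius
  let s : ℕ → SGA7.Pts kb G := fun n => Nat.rec 1 (fun m sm => π ^ m • w * sm) n
  have hs : ∀ n, s n ∈ S := by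
    intro n
    induction n with
    | zero => exact S.one_mem
    | succ n ih => exact S.mul_mem (hws n) ih
  obtain ⟨d, hd, hd1⟩ : ∃ d, 0 < d ∧ s N ^ d = 1 :=
    ⟨orderOf (⟨s N, hs N⟩ : S), orderOf_pos _, congrArg Subtype.val (pow_orderOf_eq_one (⟨s N, hs N⟩ : S))⟩
  have key : ∀ h : {h : SGA7.Pts kb G // π • h = w * h * w⁻¹}, π ^ (N * d) • h.1 = h.1 := by
    rintro ⟨h, hh⟩
    have h1 : ∀ n, π ^ n • h = s n * h * (s n)⁻¹ := by
      intro n
      induction n with
      | zero =>
        show π ^ 0 • h = 1 * h * 1⁻¹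
        rw [pow_zero, one_smul]; group
      | succ n ih =>
        rw [pow_succ, ← smul_smul, hh, smul_mul', smul_mul', ih, smul_inv']
        show _ = π ^ n • w * s n * h * (π ^ n • w * s n)⁻¹
        group
    have h2 : ∀ j, π ^ (N * j) • h = s N ^ j * h * (s N ^ j)⁻¹ := by
      intro j
      induction j with
      | zero => simp
      | succ j ih =>
        rw [Nat.mul_succ, Nat.add_comm, pow_add, ← smul_smul, ih, smul_mul', smul_mul', h1, smul_inv',
          show π ^ N • s N ^ j = s N ^ j from S.pow_mem (hs N) j, pow_succ]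
        group
    show π ^ (N * d) • h = h
    rw [h2, hd1]
    group
  haveI := finite_pow_fixed (Y := G) hπ (Nat.mul_pos hN hd)
  exact Finite.of_injective (fun h => (⟨h.1, key h⟩ : {g : SGA7.Pts kb G // π ^ (N * d) • g = g}))
    fun a b e => Subtype.ext (congrArg (fun g => g.1) e)

end Finiteness

end Groth.Agent.StackLang19
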