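import Groth.Agent.Lib.StackLang19.Main

/-!
# First Galois cohomology along a surjection with connected kernel over a finite field
-/

set_option autoImplicit false
set_option linter.style.haveILetI false
set_option linter.unusedSectionVars false
set_option backward.isDefEq.respectTransparency false
set_option backward.isDefEq.respectTransparency.types false
universe u

open CategoryTheory MonoidalCategory CartesianMonoidalCategory MonObj GrpObj AlgebraicGeometry

namespace Groth.Agent.StackLang19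

open StackGal23

variable {k : Type u} [Field k] [Finite k] {kb : Type u} [Field kb] [Algebra k kb] [IsAlgClosure k kb]

/-- The Frobenius value determines a locally constant cocycle with values in points. -/
theorem frobValue {G : Over (Spec (CommRingCat.of k))} [GrpObj G] [LocallyOfFiniteType G.hom]
    [QuasiCompact G.hom] {fr : kb ≃ₐ[k] kb} (hfr : ∀ x, fr x = x ^ Nat.card k) :
    Function.Bijective (fun z : GpH1.OneCocycleLC (kb ≃ₐ[k] kb) (SGA7.Pts kb G) => z.1 fr) ∧
      ∀ z z' : GpH1.OneCocycleLC (kb ≃ₐ[k] kb) (SGA7.Pts kb G),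
        z.cl = z'.cl ↔ ∃ g : SGA7.Pts kb G, z'.1 fr = g * z.1 fr * (fr • g)⁻¹ := by
  refine frobValue_bijective fr hfr _ (fun a => isOpen_setOf_gal_eq (k' := k) a) fun a => ?_
  obtain ⟨N, hN, ha⟩ := exists_pow_fixed hfr a
  let S : Subgroup (SGA7.Pts kb G) :=
    { carrier := {g | fr ^ N • g = g}
      one_mem' := smul_one _
      mul_mem' := fun {a b} ha hb => by
        show fr ^ N • (a * b) = a * b
        rw [smul_mul']
        exact congrArg₂ (· * ·) ha hb
      inv_mem' := fun {a} ha => by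
        show fr ^ N • a⁻¹ = a⁻¹
        rw [smul_inv']
        exact congrArg _ ha }
  haveI : Finite S := finite_pow_fixed hfr hN
  refine ⟨S, Set.toFinite _, ha, fun σ x hx => ?_⟩
  have hx' : fr ^ N • x = x := hx
  show fr ^ N • σ • x = σ • x
  classical
  have h := eq_of_forall_pow hfr (f := fun τ => decide (fr ^ N • τ • x = τ • x)) (c := true)
    ((isLocallyConstant_gal x).comp fun y => decide (fr ^ N • y = y)) (fun n => by
      have : fr ^ N • fr ^ n • x = fr ^ n • x := by
        rw [smul_smul, pow_mul_comm, ← smul_smul, hx']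
      simpa using this) σ
  simpa using h

variable {A B C : Over (Spec (CommRingCat.of k))} [GrpObj A] [GrpObj B] [GrpObj C] {i : A ⟶ B} {π : B ⟶ C}
  [Smooth A.hom] [QuasiCompact A.hom] [ConnectedSpace A.left] [Smooth B.hom] [QuasiCompact B.hom]
  [Smooth C.hom] [QuasiCompact C.hom] [IsMonHom π]

theorem H1lcMap_bijective (hex : NonAbH1.IsExactSeq Scheme.fppfPrecoverage i π) :
    Function.Bijective (GalTw.H1lcMap (GalTw.ptsMap (K := kb) π) (GalTw.ptsMap_smul (K := kb) π)) := by
  haveI : IsMonHom i := hex.1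
  obtain ⟨fr, hfr⟩ := exists_frob (k := k) (kb := kb)
  obtain ⟨hbijB, hclB⟩ := frobValue (G := B) hfr
  obtain ⟨hbijC, hclC⟩ := frobValue (G := C) hfr
  constructor
  · intro x y
    obtain ⟨z, rfl⟩ := Quotient.exists_rep x
    obtain ⟨z', rfl⟩ := Quotient.exists_rep y
    intro e
    obtain ⟨g, hg⟩ := (hclC _ _).1 e
    obtain ⟨b, hb⟩ := surjective_pts hex g
    replace hg : z'.1 fr ≫ π = g * (z.1 fr ≫ π) * (fr • g)⁻¹ := hg
    set w := b * z.1 fr * (fr • b)⁻¹ with hwdef
    have hw : (z'.1 fr * w⁻¹) ≫ π = 1 := by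
      have e1 : w ≫ π = z'.1 fr ≫ π := by
        rw [hg, hwdef, MonObj.mul_comp, MonObj.mul_comp, GrpObj.inv_comp, hb]
        congr 2
        rw [← hb]
        exact Category.assoc _ _ _
      rw [MonObj.mul_comp, GrpObj.inv_comp, e1, mul_inv_cancel]
    obtain ⟨y, hy⟩ := exists_of_comp_eq_one hex _ hw
    obtain ⟨c, hc⟩ := exists_lang hex hfr w y⁻¹
    rw [GrpObj.inv_comp, hy] at hc
    refine (hclB z z').2 ⟨(c ≫ i) * b, ?_⟩
    calc z'.1 fr = (w * fr • (c ≫ i) * w⁻¹ * (c ≫ i)⁻¹)⁻¹ * w := by rw [hc]; group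
      _ = _ := by rw [smul_mul', hwdef]; group
  · intro y
    obtain ⟨zc, rfl⟩ := Quotient.exists_rep y
    obtain ⟨b, hb⟩ := surjective_pts hex (zc.1 fr)
    obtain ⟨z, hz⟩ := hbijB.2 b
    exact ⟨z.cl, congrArg GpH1.OneCocycleLC.cl (hbijC.1 (a₁ := GalTw.lcMap (GalTw.ptsMap (K := kb) π)
      (GalTw.ptsMap_smul (K := kb) π) z) (a₂ := zc) (by
        show z.1 fr ≫ π = zc.1 fr
        rw [show z.1 fr = b from hz, hb]))⟩

end Groth.Agent.StackLang19
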