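import Groth.Agent.Lib.StackLang19.Frob
import Groth.Agent.Lib.StackLang19.Lang
import Groth.Agent.Lib.GrpComp19.Basic
import Groth.Prelude.Def_NonAbH2

/-!
# Rational points of twisted extensions by connected groups
-/

set_option autoImplicit false
set_option linter.style.haveILetI false
set_option linter.unusedSectionVars false
set_option backward.isDefEq.respectTransparency false
set_option backward.isDefEq.respectTransparency.types false
universe u

open CategoryTheory MonoidalCategory CartesianMonoidalCategory MonObj GrpObj AlgebraicGeometry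
open Limits (pullback)

namespace Groth.Agent.StackLang19

open StackGal23

variable {k : Type u} [Field k] {kb : Type u} [Field kb] [Algebra k kb]
  {A B C : Over (Spec (CommRingCat.of k))} [GrpObj A] [GrpObj B] [GrpObj C] {i : A ⟶ B} {π : B ⟶ C}

theorem exists_of_comp_eq_one (hex : NonAbH1.IsExactSeq Scheme.fppfPrecoverage i π)
    {T : Over (Spec (CommRingCat.of k))} (x : T ⟶ B) (h : x ≫ π = 1) : ∃ a : T ⟶ A, a ≫ i = x := by
  obtain ⟨-, hπ, -, sq, -⟩ := hex
  haveI := hπ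
  have e : (1 : T ⟶ B) ≫ π = x ≫ π := by rw [MonObj.one_comp, h]
  refine ⟨sq.lift 1 x e ≫ snd B A, ?_⟩
  have h2 : lift (sq.lift 1 x e ≫ fst B A) (sq.lift 1 x e ≫ snd B A ≫ i) ≫ μ[B] = x := by
    conv_rhs => rw [← sq.lift_snd 1 x e]
    rw [← comp_lift_assoc]
    congr 1
  rw [sq.lift_fst, ← Hom.mul_def, _root_.one_mul] at h2
  rw [Category.assoc, h2]

theorem cancel_incl (hex : NonAbH1.IsExactSeq Scheme.fppfPrecoverage i π)
    {T : Over (Spec (CommRingCat.of k))} {a b : T ⟶ A} (h : a ≫ i = b ≫ i) : a = b := by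
  obtain ⟨-, -, -, sq, -⟩ := hex
  have e : lift (1 : T ⟶ B) a = lift 1 b := by
    refine sq.hom_ext (by rw [lift_fst, lift_fst]) ?_
    rw [lift_whiskerLeft_assoc, lift_whiskerLeft_assoc, h]
  simpa using congrArg (· ≫ snd B A) e

/-- Base change of points. -/
noncomputable abbrev bch (ψ : Spec (CommRingCat.of kb) ⟶ Spec (CommRingCat.of k))
    {T : Over (Spec (CommRingCat.of kb))} {X : Over (Spec (CommRingCat.of k))} (x : (Over.map ψ).obj T ⟶ X) :
    T ⟶ (Over.pullback ψ).obj X :=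
  (Over.mapPullbackAdj ψ).homEquiv T X x

theorem bch_one (ψ : Spec (CommRingCat.of kb) ⟶ Spec (CommRingCat.of k))
    {T : Over (Spec (CommRingCat.of kb))} {X : Over (Spec (CommRingCat.of k))} [GrpObj X] :
    bch ψ (1 : (Over.map ψ).obj T ⟶ X) = 1 := by
  have h := bcHomEquiv_mul ψ T (1 : (Over.map ψ).obj T ⟶ X) 1
  rw [_root_.one_mul] at h
  exact left_eq_mul.1 h

variable (hex : NonAbH1.IsExactSeq Scheme.fppfPrecoverage i π)

include hex in
theorem exists_of_comp_eq_one_bc {T : Over (Spec (CommRingCat.of kb))} (x : T ⟶ GalTw.bcK kb B)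
    (h : x ≫ (Over.pullback (SGA7.pt (K := k) kb).hom).map π = 1) :
    ∃ a : T ⟶ GalTw.bcK kb A, a ≫ (Over.pullback (SGA7.pt (K := k) kb).hom).map i = x := by
  set ψ := (SGA7.pt (K := k) kb).hom
  let e := fun X => (Over.mapPullbackAdj ψ).homEquiv T X
  obtain ⟨y, rfl⟩ := (e B).surjective x
  have hy : y ≫ π = 1 := by
    apply (e C).injective
    show bch ψ (y ≫ π) = bch ψ 1
    rw [bch_one, bch, Adjunction.homEquiv_naturality_right]
    exact h
  obtain ⟨a, rfl⟩ := exists_of_comp_eq_one hex y hy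
  exact ⟨e A a, ((Over.mapPullbackAdj ψ).homEquiv_naturality_right a i).symm⟩

include hex in
theorem cancel_incl_bc {T : Over (Spec (CommRingCat.of kb))} {a b : T ⟶ GalTw.bcK kb A}
    (h : a ≫ (Over.pullback (SGA7.pt (K := k) kb).hom).map i = b ≫ (Over.pullback (SGA7.pt (K := k) kb).hom).map i) :
    a = b := by
  set ψ := (SGA7.pt (K := k) kb).hom
  obtain ⟨a, rfl⟩ := ((Over.mapPullbackAdj ψ).homEquiv T A).surjective a
  obtain ⟨b, rfl⟩ := ((Over.mapPullbackAdj ψ).homEquiv T A).surjective b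
  rw [← Adjunction.homEquiv_naturality_right, ← Adjunction.homEquiv_naturality_right] at h
  exact congrArg _ (cancel_incl hex (((Over.mapPullbackAdj ψ).homEquiv T B).injective h))

theorem secOfPt_map {X Y : Over (Spec (CommRingCat.of k))} (f : X ⟶ Y) (g : SGA7.Pts kb X) :
    GalTw.secOfPt kb g ≫ (Over.pullback (SGA7.pt (K := k) kb).hom).map f = GalTw.secOfPt kb (g ≫ f) := by
  rw [secOfPt_eq, secOfPt_eq]
  exact ((Over.mapPullbackAdj (SGA7.pt (K := k) kb).hom).homEquiv_naturality_right _ f).symm.trans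
    (congrArg _ (Category.assoc _ _ _))

/-- Conjugation of a homomorphism by a constant is a homomorphism. -/
theorem isMonHom_conj {S : Scheme.{u}} {G H : Over S} [GrpObj G] [GrpObj H] (f : G ⟶ H) [IsMonHom f]
    (c : 𝟙_ (Over S) ⟶ H) : IsMonHom ((toUnit G ≫ c) * f * (toUnit G ≫ c)⁻¹) := by
  refine ⟨?_, ?_⟩
  · rw [MonObj.comp_mul, MonObj.comp_mul, GrpObj.comp_inv, IsMonHom.one_hom (f := f),
      ← Category.assoc, toUnit_unique (η[G] ≫ toUnit G) (𝟙 _), Category.id_comp,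
      show η[H] = (1 : 𝟙_ (Over S) ⟶ H) by rw [Hom.one_def, toUnit_unique (toUnit _) (𝟙 _), Category.id_comp],
      _root_.mul_one, mul_inv_cancel]
  · set F := (toUnit G ≫ c) * f * (toUnit G ≫ c)⁻¹ with hF
    have e : μ[G] = fst G G * snd G G := by rw [Hom.mul_def, lift_fst_snd, Category.id_comp]
    have e' : (F ⊗ₘ F) ≫ μ[H] = (fst G G ≫ F) * (snd G G ≫ F) := by
      rw [Hom.mul_def]
      congr 1
    rw [e', e, hF]
    simp only [MonObj.comp_mul, GrpObj.comp_inv, MonObj.mul_comp, ← Category.assoc,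
      toUnit_unique (fst G G ≫ toUnit G) (toUnit (G ⊗ G)), toUnit_unique (snd G G ≫ toUnit G) (toUnit (G ⊗ G)),
      toUnit_unique ((fst G G * snd G G) ≫ toUnit G) (toUnit (G ⊗ G))]
    group

variable [IsAlgClosure k kb]

instance smooth_bc [Smooth A.hom] : Smooth (GalTw.bcK kb A).hom :=
  inferInstanceAs (Smooth (pullback.snd A.hom _))

instance quasiCompact_bcK [QuasiCompact A.hom] : QuasiCompact (GalTw.bcK kb A).hom :=
  inferInstanceAs (QuasiCompact (pullback.snd A.hom _))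

theorem connectedSpace_bc [Smooth A.hom] [QuasiCompact A.hom] [ConnectedSpace A.left] :
    ConnectedSpace (GalTw.bcK kb A).left := by
  haveI : GeometricallyIrreducible (𝟙 A.left ≫ A.hom) :=
    GrpComp19.geometricallyIrreducible_of_range (G := A) (𝟙 A.left) (by
      rw [PreconnectedSpace.connectedComponent_eq_univ]
      exact Set.range_eq_univ.2 fun x => ⟨x, rfl⟩)
  rw [Category.id_comp] at this
  haveI : Subsingleton ↥(SGA7.pt (K := k) kb).left := inferInstanceAs (Subsingleton (PrimeSpectrum kb))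
  haveI : Nonempty ↥(SGA7.pt (K := k) kb).left := inferInstanceAs (Nonempty (PrimeSpectrum kb))
  haveI : IrreducibleSpace (GalTw.bcK kb A).left :=
    GeometricallyIrreducible.irreducibleSpace_of_subsingleton (pullback.snd A.hom (SGA7.pt (K := k) kb).hom)
  infer_instance

theorem surjective_pts [Smooth B.hom] [Smooth C.hom] (hex : NonAbH1.IsExactSeq Scheme.fppfPrecoverage i π)
    (x : SGA7.Pts kb C) : ∃ b : SGA7.Pts kb B, b ≫ π = x := by
  haveI := IsAlgClosure.isAlgClosed k (K := kb)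
  obtain ⟨-, -, -, -, R, hR, hsec⟩ := hex
  haveI hs : Surjective π.left := ⟨fun c => by
    obtain ⟨J, X, f, rfl⟩ := R.exists_eq_ofArrows
    obtain ⟨j, y, rfl⟩ := ((Scheme.ofArrows_mem_precoverage_iff _).1 hR).1 c
    obtain ⟨s, hs⟩ := hsec (f j) ⟨j⟩
    exact ⟨s y, congrArg (fun g : X j ⟶ C.left => g y) hs⟩⟩
  let π' := (Over.pullback (SGA7.pt (K := k) kb).hom).map π
  haveI : LocallyOfFiniteType (GalTw.bcK kb B).hom := inferInstanceAs (LocallyOfFiniteType (pullback.snd B.hom _))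
  haveI : LocallyOfFiniteType (GalTw.bcK kb C).hom := inferInstanceAs (LocallyOfFiniteType (pullback.snd C.hom _))
  haveI : Surjective π'.left := by
    have h : IsPullback (Limits.pullback.fst B.hom (SGA7.pt (K := k) kb).hom) π'.left π.left
        (Limits.pullback.fst C.hom (SGA7.pt (K := k) kb).hom) := by
      refine IsPullback.of_bot (v₂₁ := (GalTw.bcK kb C).hom) (v₂₂ := C.hom)
        (h₃₁ := (SGA7.pt (K := k) kb).hom) ?_ ?_ (IsPullback.of_hasPullback C.hom (SGA7.pt (K := k) kb).hom)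
      · rw [Over.w π, Over.w π']
        exact IsPullback.of_hasPullback B.hom (SGA7.pt (K := k) kb).hom
      · exact (Limits.pullback.lift_fst _ _ _).symm
    exact MorphismProperty.of_isPullback (P := @Surjective) h hs
  obtain ⟨s, hs'⟩ := exists_point_lift π' (GalTw.secOfPt kb x) (π'.left.surjective _)
  refine ⟨(secEquiv kb B).symm s, (secEquiv kb C).injective ?_⟩
  rw [secEquiv_apply, secEquiv_apply, ← secOfPt_map, ← hs']
  exact congrArg (· ≫ π') ((secEquiv kb B).apply_symm_apply s)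

variable [Finite k] [Smooth A.hom] [QuasiCompact A.hom] [ConnectedSpace A.left] [Smooth B.hom] [QuasiCompact B.hom]

include hex in
/-- Lang's theorem for the twist of the connected kernel. -/
theorem exists_lang {fr : kb ≃ₐ[k] kb} (hfr : ∀ x, fr x = x ^ Nat.card k) (w : SGA7.Pts kb B)
    (y : SGA7.Pts kb A) : ∃ c : SGA7.Pts kb A, w * fr • (c ≫ i) * w⁻¹ * (c ≫ i)⁻¹ = y ≫ i := by
  haveI := IsAlgClosure.isAlgClosed k (K := kb)
  haveI : IsMonHom i := hex.1
  haveI : IsMonHom π := hex.2.1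
  obtain ⟨F, hnat, hF⟩ := exists_frobHom (k := k) (kb := kb)
  set ψ := (SGA7.pt (K := k) kb).hom
  let i' : GalTw.bcK kb A ⟶ GalTw.bcK kb B := (Over.pullback ψ).map i
  let π' : GalTw.bcK kb B ⟶ GalTw.bcK kb C := (Over.pullback ψ).map π
  let F' : GalTw.bcK kb B ⟶ GalTw.bcK kb B := (Over.pullback ψ).map (F B)
  haveI := isMonHom_frobHom hnat B
  haveI := isMonHom_frobHom hnat C
  haveI : IsMonHom i' := inferInstanceAs (IsMonHom ((Over.pullback ψ).map i))
  haveI : IsMonHom π' := inferInstanceAs (IsMonHom ((Over.pullback ψ).map π))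
  haveI : IsMonHom F' := inferInstanceAs (IsMonHom ((Over.pullback ψ).map (F B)))
  let τB := (toUnit (GalTw.bcK kb B) ≫ GalTw.secOfPt kb w) * F' *
    (toUnit (GalTw.bcK kb B) ≫ GalTw.secOfPt kb w)⁻¹
  haveI : IsMonHom τB := isMonHom_conj F' _
  have hk : (i' ≫ τB) ≫ π' = 1 := by
    have e : i' ≫ F' ≫ π' = 1 := by
      show (Over.pullback ψ).map i ≫ (Over.pullback ψ).map (F B) ≫ (Over.pullback ψ).map π = 1
      rw [← Functor.map_comp, ← Functor.map_comp, hnat, ← Category.assoc, hex.2.2.1, MonObj.one_comp (F C)]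
      have h := Functor.map_mul (Over.pullback ψ) (1 : A ⟶ C) 1
      rw [_root_.one_mul] at h
      exact left_eq_mul.1 h
    simp only [τB, MonObj.comp_mul, GrpObj.comp_inv, MonObj.mul_comp, GrpObj.inv_comp, Category.assoc, e,
      _root_.mul_one, mul_inv_cancel]
  obtain ⟨τ, hτ⟩ := exists_of_comp_eq_one_bc hex _ hk
  haveI : IsMonHom τ := ⟨cancel_incl_bc hex (by
      rw [Category.assoc, hτ]
      exact (IsMonHom.one_hom (f := i' ≫ τB)).trans (IsMonHom.one_hom (f := i')).symm),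
    cancel_incl_bc hex (by
      rw [Category.assoc, hτ, IsMonHom.mul_hom (f := i' ≫ τB), Category.assoc, IsMonHom.mul_hom (f := i'),
        tensorHom_comp_tensorHom_assoc, hτ])⟩
  haveI := connectedSpace_bc (kb := kb) (A := A)
  have hpt : ∀ c : SGA7.Pts kb A, ∃ d : SGA7.Pts kb A,
      GalTw.secOfPt kb c ≫ τ = GalTw.secOfPt kb d ∧ d ≫ i = w * fr • (c ≫ i) * w⁻¹ := fun c => by
    obtain ⟨d, hd⟩ := (secEquiv kb A).surjective (GalTw.secOfPt kb c ≫ τ)
    rw [secEquiv_apply] at hd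
    refine ⟨d, hd.symm, (secEquiv kb B).injective ?_⟩
    rw [secEquiv_apply, secEquiv_apply, ← secOfPt_map, hd, Category.assoc, hτ, secOfPt_mul, secOfPt_mul,
      secOfPt_inv, ← hF fr hfr, ← secOfPt_map, ← secOfPt_map]
    simp only [τB, MonObj.comp_mul, GrpObj.comp_inv, ← Category.assoc,
      toUnit_unique ((GalTw.secOfPt kb c ≫ i') ≫ toUnit _) (𝟙 _), Category.id_comp]
    rfl
  have hfin : ∀ y : SGA7.Pts kb A,
      Finite {h : 𝟙_ (Over (Spec (CommRingCat.of kb))) ⟶ GalTw.bcK kb A //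
        h * GalTw.secOfPt kb y * (h ≫ τ)⁻¹ = GalTw.secOfPt kb y} := fun y => by
    haveI := finite_conj_fixed (G := B) hfr (w⁻¹ * (y ≫ i)⁻¹)
    have key : ∀ h : {h : 𝟙_ (Over (Spec (CommRingCat.of kb))) ⟶ GalTw.bcK kb A //
        h * GalTw.secOfPt kb y * (h ≫ τ)⁻¹ = GalTw.secOfPt kb y},
        fr • ((secEquiv kb A).symm h.1 ≫ i) =
          (w⁻¹ * (y ≫ i)⁻¹) * ((secEquiv kb A).symm h.1 ≫ i) * (w⁻¹ * (y ≫ i)⁻¹)⁻¹ := fun h => by
      obtain ⟨a, ha⟩ := (secEquiv kb A).surjective h.1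
      rw [← ha, (secEquiv kb A).symm_apply_apply]
      obtain ⟨d, hd1, hd2⟩ := hpt a
      have e := h.2
      rw [← ha, secEquiv_apply, hd1, ← secOfPt_inv, ← secOfPt_mul, ← secOfPt_mul] at e
      have e1 : a * y * d⁻¹ = y := (secEquiv kb A).injective e
      have e2 : d = y⁻¹ * a * y := by
        rw [mul_inv_eq_iff_eq_mul] at e1
        rw [_root_.mul_assoc, e1, inv_mul_cancel_left]
      rw [e2, MonObj.mul_comp, MonObj.mul_comp, GrpObj.inv_comp] at hd2
      calc fr • (a ≫ i) = w⁻¹ * (w * fr • (a ≫ i) * w⁻¹) * w := by group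
        _ = _ := by rw [← hd2]; group
    refine Finite.of_injective (fun h => (⟨_, key h⟩ : {g : SGA7.Pts kb B //
      fr • g = (w⁻¹ * (y ≫ i)⁻¹) * g * (w⁻¹ * (y ≫ i)⁻¹)⁻¹})) fun a b e => Subtype.ext ?_
    exact (secEquiv kb A).symm.injective (cancel_incl hex (congrArg Subtype.val e))
  have h1 : GalTw.secOfPt kb (1 : SGA7.Pts kb A) = 1 := by
    have h := secOfPt_mul kb (1 : SGA7.Pts kb A) 1
    rw [_root_.one_mul] at h
    exact left_eq_mul.1 h
  have hfin1 := hfin 1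
  rw [h1] at hfin1
  obtain ⟨c', hc'⟩ := exists_eq_mul_inv τ (GalTw.secOfPt kb y⁻¹) (hfin y⁻¹) hfin1
  obtain ⟨c, rfl⟩ := (secEquiv kb A).surjective c'
  obtain ⟨d, hd1, hd2⟩ := hpt c
  rw [secEquiv_apply, hd1, ← secOfPt_inv, ← secOfPt_mul] at hc'
  have e : y⁻¹ = c * d⁻¹ := (secEquiv kb A).injective hc'
  refine ⟨c, ?_⟩
  rw [← hd2, ← GrpObj.inv_comp, ← MonObj.mul_comp, show d * c⁻¹ = y by rw [← _root_.inv_inv y, e]; group]

/-- The twisted fixed points. -/
noncomputable def fixHom {z : (kb ≃ₐ[k] kb) → SGA7.Pts kb B} [IsMonHom π] :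
    innFix (k' := k) kb z →* innFix (k' := k) kb (fun σ => z σ ≫ π) where
  toFun g := ⟨g.1 ≫ π, fun σ => by
    conv_rhs => rw [← g.2 σ]
    simp only [MonObj.mul_comp, GrpObj.inv_comp, Category.assoc]⟩
  map_one' := Subtype.ext (MonObj.one_comp π)
  map_mul' a b := Subtype.ext (MonObj.mul_comp _ _ π)

include hex in
theorem fixHom_surjective [Smooth C.hom] [IsMonHom π] {fr : kb ≃ₐ[k] kb} (hfr : ∀ x, fr x = x ^ Nat.card k)
    (z : GpH1.OneCocycleLC (kb ≃ₐ[k] kb) (SGA7.Pts kb B)) :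
    Function.Surjective (fixHom (π := π) (z := fun σ => z.1 σ)) := by
  haveI : IsMonHom i := hex.1
  intro x
  obtain ⟨b, hb⟩ := surjective_pts hex x.1
  set w := z.1 fr
  have hy : (w * fr • b * w⁻¹ * b⁻¹) ≫ π = 1 := by
    have h : w ≫ π * fr • x.1 * (w ≫ π)⁻¹ = x.1 := x.2 fr
    have e : (fr • b) ≫ π = fr • x.1 := by rw [← hb]; exact Category.assoc _ _ _
    rw [MonObj.mul_comp, MonObj.mul_comp, MonObj.mul_comp, GrpObj.inv_comp, GrpObj.inv_comp, e, h, hb,
      mul_inv_cancel]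
  obtain ⟨y, hy⟩ := exists_of_comp_eq_one hex _ hy
  obtain ⟨c, hc⟩ := exists_lang hex hfr w y
  have hfix : w * fr • ((c⁻¹ ≫ i) * b) * w⁻¹ = (c⁻¹ ≫ i) * b := by
    rw [hy] at hc
    rw [GrpObj.inv_comp, smul_mul', smul_inv']
    calc w * ((fr • (c ≫ i))⁻¹ * fr • b) * w⁻¹
        = (w * fr • (c ≫ i) * w⁻¹ * (c ≫ i)⁻¹ * (c ≫ i))⁻¹ * (w * fr • b * w⁻¹ * b⁻¹ * b) := by group
      _ = _ := by rw [hc]; group
  refine ⟨⟨(c⁻¹ ≫ i) * b, ?_⟩, Subtype.ext ?_⟩
  · refine (forall_iff_frob hfr (fun σ g => z.1 σ * σ • g * (z.1 σ)⁻¹) ?_ ?_ ?_).2 hfix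
    · rw [show z.1 (1 : kb ≃ₐ[k] kb) = 1 from ?_, one_smul]
      · group
      · have := z.1.2 1 1
        rw [one_smul, _root_.mul_one] at this
        exact left_eq_mul.1 this
    · intro σ τ
      show z.1 (σ * τ) * (σ * τ) • _ * (z.1 (σ * τ))⁻¹ = _
      simp only [z.1.2 σ τ, smul_mul', smul_inv', mul_smul]
      group
    · exact z.2.comp₂ (isLocallyConstant_gal _) fun a b => a * b * a⁻¹
  · show ((c⁻¹ ≫ i) * b) ≫ π = x.1
    rw [MonObj.mul_comp, Category.assoc, hex.2.2.1, MonObj.comp_one, _root_.one_mul, hb]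

include hex in
theorem card_innFix [Smooth C.hom] {c : AlgGrp.Action B A}
    (hc : c.act ≫ i = fst B A * (snd B A ≫ i) * (fst B A)⁻¹)
    (z : GpH1.OneCocycleLC (kb ≃ₐ[k] kb) (SGA7.Pts kb B)) :
    Nat.card (innFix (k' := k) kb (fun σ => z.1 σ)) =
      Nat.card (Fix (k' := k) kb c (fun σ => z.1 σ)) *
        Nat.card (innFix (k' := k) kb (fun σ => z.1 σ ≫ π)) := by
  haveI : IsMonHom i := hex.1
  haveI : IsMonHom π := hex.2.1
  obtain ⟨fr, hfr⟩ := exists_frob (k := k) (kb := kb)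
  let φ := fixHom (π := π) (z := fun σ => z.1 σ)
  have hsurj := fixHom_surjective hex hfr z
  rw [Subgroup.card_eq_card_quotient_mul_card_subgroup φ.ker,
    Nat.card_congr (QuotientGroup.quotientKerEquivOfSurjective φ hsurj).toEquiv, mul_comm]
  congr 1
  have key : ∀ (a : SGA7.Pts kb A) (σ : kb ≃ₐ[k] kb),
      (lift (z.1 σ) (galPt k k kb σ ≫ a) ≫ c.act) ≫ i =
        z.1 σ * (galPt k k kb σ ≫ a ≫ i) * (z.1 σ)⁻¹ := fun a σ => by
    rw [Category.assoc, hc, MonObj.comp_mul, MonObj.comp_mul, GrpObj.comp_inv, lift_fst, lift_snd_assoc,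
      Category.assoc]
  refine (Nat.card_congr (Equiv.ofBijective
    (fun a : Fix (k' := k) kb c (fun σ => z.1 σ) => (⟨⟨a.1 ≫ i, fun σ => by rw [← key, a.2 σ]⟩,
      Subtype.ext (by show (a.1 ≫ i) ≫ π = 1; rw [Category.assoc, hex.2.2.1, MonObj.comp_one])⟩ : φ.ker))
    ⟨fun a b e => Subtype.ext (cancel_incl hex (congrArg (fun g => g.1.1) e)), fun g => ?_⟩)).symm
  obtain ⟨a, ha⟩ := exists_of_comp_eq_one hex g.1.1 (congrArg Subtype.val g.2)
  refine ⟨⟨a, fun σ => cancel_incl hex ?_⟩, Subtype.ext (Subtype.ext ha)⟩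
  rw [key, ha]
  exact g.1.2 σ

end Groth.Agent.StackLang19
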